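import Groth.Agent.H13.SubTorus.Main
import Groth.Agent.Lib.SmWeil.MaxTorusBC
import Groth.Agent.Lib.ImgMT.CommTorus

/-!
# Central maximal tori: base change and descent, for any group of finite presentation
-/

set_option autoImplicit false
set_option linter.style.haveILetI false

universe u

open CategoryTheory CategoryTheory.Limits AlgebraicGeometry MonoidalCategory CartesianMonoidalCategory
open CategoryTheory.MonObj CategoryTheory.GrpObj
open Groth.Agent.Lib Groth.Agent.Lib.RedPts Groth.Agent.Lib.Tori Groth.Agent.H87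
open Groth.Agent.Lib.SmWeil Groth.Agent.Lib.SmWeil.MaxTorusBC

namespace Groth.Agent.H13.SubTorus

section Field

variable {K : Type u} [Field K] [IsAlgClosed K] {G T : Over (Spec (CommRingCat.of K))} [GrpObj G] [GrpObj T]
  {K' : Type u} [Field K'] [IsAlgClosed K'] [Algebra K K']

/-- A central maximal torus over an algebraically closed field stays maximal over a larger one. -/
theorem isIso_of_maximal_central [LocallyOfFinitePresentation G.hom] (i : T ⟶ G) [IsMonHom i] [Mono i]
    (hT : Red.IsTorus T)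
    (hcen : ∀ (X : Over (Spec (CommRingCat.of K))) (t : X ⟶ T) (x : X ⟶ G), (t ≫ i) * x = x * (t ≫ i))
    (hmax : ∀ (T' : Over (Spec (CommRingCat.of K))) [GrpObj T'] (j : T' ⟶ G) [IsMonHom j] [Mono j] (f : T ⟶ T'),
      Red.IsTorus T' → f ≫ j = i → IsIso f)
    {T' : Over (Spec (CommRingCat.of K'))} [GrpObj T']
    (j : T' ⟶ Red.bc (TorusSpec.base (K := K) K') G) [IsMonHom j] [Mono j]
    (f : Red.bc (TorusSpec.base (K := K) K') T ⟶ T') (hT' : Red.IsTorus T')
    (hf : f ≫ j = (Over.pullback (TorusSpec.base (K := K) K')).map i) : IsIso f := by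
  let g := TorusSpec.base (K := K) K'
  let S := Spec (CommRingCat.of K)
  let S' := Spec (CommRingCat.of K')
  haveI : IsSeparated G.hom := GrpSch.isSeparated_of_field G
  -- split
  obtain ⟨m, ⟨eT⟩⟩ := TorusIn.exists_split T hT
  obtain ⟨r, ⟨eT'⟩⟩ := TorusIn.exists_split T' hT'
  let eD := DS.dsBC (S := S) (Fin r → ℤ) g ≪≫ eT'.symm
  haveI : IsMonHom (BaseChange.overIso eD).hom := inferInstance
  let h : Red.bc g (Red.DS S (Fin r → ℤ)) ⟶ Red.bc g G := (BaseChange.overIso eD).hom ≫ j
  haveI : IsMonHom h := inferInstanceAs (IsMonHom ((BaseChange.overIso eD).hom ≫ j))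
  haveI : Mono h := inferInstanceAs (Mono ((BaseChange.overIso eD).hom ≫ j))
  obtain ⟨N, jN, hr, hjN, hjNm⟩ := TorusSpec.exists_specialization h
  haveI := hjN
  haveI := hjNm
  obtain ⟨w, hw⟩ := TorusIn.exists_fac_field i jN hT (TorusIn.isTorus_DS N) hmax fun X t x => hcen X t _
  haveI : IsMonHom (w ≫ i) := by rw [hw]; infer_instance
  haveI : IsMonHom w := isMonHom_of_mono_comp w i
  haveI : Mono w := by
    haveI : Mono (w ≫ i) := by rw [hw]; infer_instance
    exact mono_of_mono w i
  haveI : AddGroup.FG (Fin m → ℤ) := Module.Finite.iff_addGroup_fg.1 inferInstance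
  haveI := BaseChange.isMonHom_overIso eT
  haveI : Mono (w ≫ (BaseChange.overIso eT).hom) := mono_comp_iso w _
  obtain ⟨φ, hφ, -⟩ := exists_phi (w ≫ (BaseChange.overIso eT).hom)
  have hrm : r ≤ m := by
    haveI : Module.Finite ℤ N := Module.Finite.iff_addGroup_fg.mpr ((AddGroup.fg_iff_addSubgroup_fg N).mpr
      (Submodule.fg_iff_addSubgroup_fg N.toIntSubmodule |>.mp (IsNoetherian.noetherian _)))
    refine hr.trans ?_
    have h1 := LinearMap.finrank_range_le φ.toIntLinearMap
    rw [LinearMap.range_eq_top.2 hφ, finrank_top] at h1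
    simpa using h1
  -- `f` is an isomorphism
  haveI : IsMonHom ((Over.pullback g).map i) := inferInstance
  haveI : Mono ((Over.pullback g).map i) := inferInstance
  haveI : IsMonHom (f ≫ j) := by rw [hf]; infer_instance
  haveI : IsMonHom f := isMonHom_of_mono_comp f j
  haveI : Mono f := by
    haveI : Mono (f ≫ j) := by rw [hf]; infer_instance
    exact mono_of_mono f j
  let eB := (BaseChange.bcMapIso g eT ≪≫ DS.dsBC (S := S) (Fin m → ℤ) g).symm
  haveI : IsMonHom (BaseChange.overIso eB).hom := inferInstance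
  haveI : IsMonHom (BaseChange.overIso eT').hom := inferInstance
  haveI : IsMonHom ((BaseChange.overIso eB).hom ≫ f ≫ (BaseChange.overIso eT').hom) := inferInstance
  haveI : Mono ((BaseChange.overIso eB).hom ≫ f ≫ (BaseChange.overIso eT').hom) :=
    mono_iso_comp_iso _ f _
  obtain ⟨ψ, hψ, hv⟩ := exists_phi ((BaseChange.overIso eB).hom ≫ f ≫ (BaseChange.overIso eT').hom)
  haveI : AddGroup.FG (Fin r → ℤ) := Module.Finite.iff_addGroup_fg.1 inferInstance
  have hmr : m ≤ r := by
    have h1 := LinearMap.finrank_range_le ψ.toIntLinearMap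
    rw [LinearMap.range_eq_top.2 hψ, finrank_top] at h1
    simpa using h1
  obtain rfl : r = m := le_antisymm hrm hmr
  have hbij : Function.Bijective ψ :=
    ⟨OrzechProperty.injective_of_surjective_endomorphism ψ.toIntLinearMap hψ, hψ⟩
  haveI : IsIso ((BaseChange.overIso eB).hom ≫ f ≫ (BaseChange.overIso eT').hom) := by
    rw [hv]
    exact inferInstanceAs (IsIso (DS.dsOverIso _ (AddEquiv.ofBijective ψ hbij)).hom)
  exact isIso_of_iso_comp_iso (BaseChange.overIso eB) f (BaseChange.overIso eT') inferInstance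

end Field

variable {S S' : Scheme.{u}} {G T : Over S} [GrpObj G] [GrpObj T]

/-- Central maximal tori are stable under base change. -/
theorem isMaximalTorus_bc_central [LocallyOfFinitePresentation G.hom] (i : T ⟶ G) (hT : Red.IsMaximalTorus i)
    (hcen : ∀ (X : Over S) (t : X ⟶ T) (x : X ⟶ G), (t ≫ i) * x = x * (t ≫ i))
    (f : S' ⟶ S) : Red.IsMaximalTorus ((Over.pullback f).map i) := by
  obtain ⟨hi, hmono, hTt, hmax⟩ := hT
  haveI := hi
  haveI := hmono
  refine ⟨inferInstance, inferInstance, Basic.isTorus_bc hTt f, fun s' T' _ j _ _ a hT' ha => ?_⟩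
  letI : Algebra (S.residueField (f s')) (AlgebraicClosure (S'.residueField s')) :=
    ((algebraMap (S'.residueField s') (AlgebraicClosure (S'.residueField s'))).comp (f.residueFieldMap s').hom).toAlgebra
  let σ : AlgebraicClosure (S.residueField (f s')) →ₐ[S.residueField (f s')]
      AlgebraicClosure (S'.residueField s') := IsAlgClosed.lift
  letI : Algebra (AlgebraicClosure (S.residueField (f s'))) (AlgebraicClosure (S'.residueField s')) :=
    σ.toRingHom.toAlgebra
  let g := TorusSpec.base (K := AlgebraicClosure (S.residueField (f s'))) (AlgebraicClosure (S'.residueField s'))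
  have hsq : Red.geomPt s' ≫ f = g ≫ Red.geomPt (f s') := by
    rw [Category.assoc, ← Scheme.Hom.SpecMap_residueFieldMap_fromSpecResidueField, ← Spec.map_comp_assoc,
      ← Category.assoc, ← Spec.map_comp]
    refine congrArg (· ≫ S.fromSpecResidueField _) (congrArg Spec.map (CommRingCat.hom_ext ?_))
    exact σ.comp_algebraMap.symm
  haveI : LocallyOfFinitePresentation (Red.bc (Red.geomPt (f s')) G).hom :=
    inferInstanceAs (LocallyOfFinitePresentation (pullback.snd _ _))
  obtain ⟨eG, eT, hnat⟩ := exists_transport (Red.geomPt s') f g (Red.geomPt (f s')) hsq i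
  haveI := BaseChange.isMonHom_overIso eG
  haveI : IsMonHom (j ≫ (BaseChange.overIso eG).hom) := inferInstance
  haveI : Mono (j ≫ (BaseChange.overIso eG).hom) := mono_comp_iso j _
  refine isIso_of_inv_comp (BaseChange.overIso eT) a ?_
  exact isIso_of_maximal_central ((Over.pullback (Red.geomPt (f s'))).map i) (Basic.isTorus_bc hTt _)
    (fun X t x => BC.down_injective (by rw [BC.down_mul, BC.down_mul, BC.down_map, hcen]))
    (fun T₁ _ j₁ _ _ f₁ h₁ e₁ => hmax (f s') T₁ j₁ f₁ h₁ e₁) (j ≫ (BaseChange.overIso eG).hom)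
    ((BaseChange.overIso eT).inv ≫ a) hT' (by
      rw [Category.assoc, reassoc_of% ha, hnat, Iso.inv_hom_id_assoc])

section Descent

open Groth.Agent.Lib.ImgMT Groth.Agent.Lib.ImgMT.CommTorus

variable {S : Scheme.{u}} {G : Over S} [GrpObj G] {S' : Scheme.{u}} (f : S' ⟶ S) {T' : Over S'} [GrpObj T']
  (i : T' ⟶ Red.bc f G)

theorem reps_desc [IsMonHom i] [LocallyOfFinitePresentation G.hom] [QuasiSeparated G.hom]
    (hcen : ∀ (X : Over S') (t : X ⟶ T') (x : X ⟶ Red.bc f G), (t ≫ i) * x = x * (t ≫ i))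
    (hi : Red.IsMaximalTorus i) :
    Reps (descSub f i) (fun _ : PUnit.{u + 1} => f) (fun _ => i) := by
  intro _ Y y
  refine ⟨?_, fun h => ?_⟩
  swap
  · obtain ⟨h', hh⟩ := h Y (𝟙 _)
    exact ⟨h', by rw [hh, Category.id_comp, BC.up_down]⟩
  rintro ⟨h, rfl⟩ Y' m
  haveI := hi.2.1
  let W := Y'.left
  let a : W ⟶ S' := m.left ≫ Y.hom
  let b : W ⟶ S' := Y'.hom
  have hab : a ≫ f = b ≫ f := (Category.assoc _ _ _).trans (Over.w m)
  haveI : LocallyOfFinitePresentation (Red.bc f G).hom :=
    inferInstanceAs (LocallyOfFinitePresentation (pullback.snd G.hom f))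
  haveI : QuasiSeparated (Red.bc f G).hom := inferInstanceAs (QuasiSeparated (pullback.snd G.hom f))
  haveI : LocallyOfFinitePresentation (Red.bc b (Red.bc f G)).hom :=
    inferInstanceAs (LocallyOfFinitePresentation (pullback.snd (Red.bc f G).hom b))
  haveI : QuasiSeparated (Red.bc b (Red.bc f G)).hom :=
    inferInstanceAs (QuasiSeparated (pullback.snd (Red.bc f G).hom b))
  let ε : ∀ X : Over W, (Over.map f).obj ((Over.map b).obj X) ≅ (Over.map f).obj ((Over.map a).obj X) := fun X =>
    Over.isoMk (Iso.refl _) (by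
      show 𝟙 _ ≫ (X.hom ≫ a) ≫ f = (X.hom ≫ b) ≫ f
      rw [Category.id_comp, Category.assoc, hab, Category.assoc])
  let ψ : (Red.bc a T') ⟶ (Red.bc b (Red.bc f G)) := BC.up b (BC.up f ((ε (Red.bc a T')).hom ≫ BC.down f (BC.down a (𝟙 (Red.bc a T')) ≫ i)))
  have hψ : ∀ {X : Over W} (x : X ⟶ (Red.bc a T')),
      BC.down f (BC.down b (x ≫ ψ)) = (ε X).hom ≫ BC.down f (BC.down a x ≫ i) := by
    intro X x
    rw [BC.down_comp, BC.down_up, BC.down_comp, BC.down_up]
    have h1 : BC.down a x = (Over.map a).map x ≫ BC.down a (𝟙 (Red.bc a T')) := by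
      rw [← BC.down_comp, Category.comp_id]
    have hsq : (Over.map f).map ((Over.map b).map x) ≫ (ε (Red.bc a T')).hom =
        (ε X).hom ≫ (Over.map f).map ((Over.map a).map x) := by
      apply Over.OverMorphism.ext
      show x.left ≫ 𝟙 (Red.bc a T').left = 𝟙 X.left ≫ x.left
      exact (Category.comp_id _).trans (Category.id_comp _).symm
    rw [h1, Category.assoc, BC.down_comp, reassoc_of% hsq]
    simp only [BC.down_comp, Category.assoc]
  haveI : IsMonHom ψ := HomDS.isMonHom_of_points ψ fun X p q => BC.down_injective (BC.down_injective (by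
    rw [BC.down_mul, BC.down_mul, hψ, hψ, hψ, BC.down_mul, MonObj.mul_comp, BC.down_mul, MonObj.comp_mul]))
  haveI : Mono ψ := (MonoHomLocus.mono_iff ψ).2 fun X x hx => by
    have h1 := hψ x
    rw [hx, BC.down_one, BC.down_one, ← MonObj.comp_one (M := G) (ε X).hom, cancel_epi] at h1
    have h2 : BC.down a x ≫ i = 1 := BC.down_injective (h1.symm.trans BC.down_one.symm)
    exact BC.down_injective (((MonoHomLocus.mono_iff i).1 inferInstance _ _ h2).trans BC.down_one.symm)
  have hB : Red.IsMaximalTorus ((Over.pullback b).map i) := isMaximalTorus_bc_central i hi hcen b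
  obtain ⟨φ, hφ⟩ := exists_fac _ hB ψ (Basic.isTorus_bc hi.2.2.1 a) fun X t r => BC.down_injective (by
    rw [BC.down_mul, BC.down_mul, BC.down_map, hcen])
  let I : Over W := Over.mk (𝟙 W)
  let α : (Over.map a).obj I ⟶ Y := Over.homMk m.left (by
    show m.left ≫ Y.hom = 𝟙 _ ≫ a
    rw [Category.id_comp])
  let β : Y' ≅ (Over.map b).obj I := Over.isoMk (Iso.refl _) (by
    show 𝟙 _ ≫ 𝟙 _ ≫ b = Y'.hom
    rw [Category.id_comp, Category.id_comp])
  let x : I ⟶ (Red.bc a T') := BC.up a (α ≫ h)
  refine ⟨β.hom ≫ BC.down b (x ≫ φ), BC.down_injective ?_⟩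
  rw [BC.down_up, Category.assoc, ← BC.down_map, Category.assoc, hφ, BC.down_comp, hψ, BC.down_up,
    Category.assoc, BC.down_comp, ← Category.assoc, ← Category.assoc]
  refine congrArg (· ≫ BC.down f (h ≫ i)) (Over.OverMorphism.ext ?_)
  show (𝟙 _ ≫ 𝟙 _) ≫ m.left = m.left
  rw [Category.id_comp, Category.id_comp]

end Descent

set_option backward.isDefEq.respectTransparency false in
/-- A central maximal torus descends along an fpqc cover. -/
theorem exists_central_maxTorus {S : Scheme.{u}} (G : Over S) [GrpObj G] [LocallyOfFinitePresentation G.hom]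
    [QuasiSeparated G.hom] {S' : Scheme.{u}} (f : S' ⟶ S) [Flat f] [Surjective f]
    (hqc : ∀ V : S.Opens, IsAffineOpen V → ∃ W : S'.Opens, IsCompact (W : Set ↥S') ∧ f.base '' (W : Set ↥S') = (V : Set ↥S))
    {T' : Over S'} [GrpObj T'] (i' : T' ⟶ Red.bc f G) (hi' : Red.IsMaximalTorus i')
    (hcen' : ∀ (X : Over S') (t : X ⟶ T') (x : X ⟶ Red.bc f G), (t ≫ i') * x = x * (t ≫ i')) :
    ∃ (T : Over S) (_ : GrpObj T) (i : T ⟶ G), Red.IsMaximalTorus i ∧
      (∀ (X : Over S) (t : X ⟶ T) (g : X ⟶ G), (t ≫ i) * g = g * (t ≫ i)) ∧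
      ∀ (R : Over S) [GrpObj R] (j : R ⟶ G) [IsMonHom j] [Mono j], Red.IsTorus R →
        ∃ w : R ⟶ T, w ≫ i = j := by
  haveI := hi'.1
  haveI := hi'.2.1
  haveI := Basic.isAffineHom_of_isTorus hi'.2.2.1
  have hmem := SubgroupDescent.cover_mem (π := f) hqc
  obtain ⟨T, gT, i, him, hi, hch, -⟩ := ImgMT.exists_subgroup (Φ := Groth.Agent.Lib.ImgMT.CommTorus.descSub f i')
    (z' := fun _ : PUnit.{u + 1} => i') hmem (reps_desc f i' hcen' hi')
    (fun W Y m => ⟨1, BC.down_injective (by rw [MonObj.one_comp, BC.down_up, BC.down_one, MonObj.comp_one])⟩)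
    (fun W a b ha hb Y m => by
      obtain ⟨p, hp⟩ := ha Y m
      obtain ⟨q, hq⟩ := hb Y m
      exact ⟨p * q, by rw [MonObj.mul_comp, hp, hq, ← BC.up_mul, MonObj.comp_mul]⟩)
    (fun W a ha Y m => by
      obtain ⟨p, hp⟩ := ha Y m
      refine ⟨p⁻¹, BC.down_injective ?_⟩
      rw [GrpObj.inv_comp, BC.down_inv, hp, BC.down_up, BC.down_up, GrpObj.comp_inv])
  letI := gT
  haveI := him
  haveI := hi
  obtain ⟨φ, hφ⟩ := hch ⟨⟩
  have hT : Red.IsTorus T := by
    obtain ⟨S₂, f₂, h1, h2, h3, h4⟩ := hi'.2.2.1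
    refine ⟨S₂, f₂ ≫ f, inferInstance, inferInstance, Charts.isQCCover_comp h3 hqc, fun s => ?_⟩
    obtain ⟨U, hU, n, hn⟩ := h4 s
    exact ⟨U, hU, n, Basic.isSplit_congr (BaseChange.bcCongr (Category.assoc _ _ _).symm T ≪≫
      BaseChange.bcComp (U.ι ≫ f₂) f T ≪≫ BaseChange.bcMapIso _ φ) hn⟩
  have hcen : ∀ (X : Over S) (t : X ⟶ T) (g : X ⟶ G), (t ≫ i) * g = g * (t ≫ i) := by
    intro X t g
    let π : (Over.map f).obj (Red.bc f X) ⟶ X := BC.down f (𝟙 (Red.bc f X))
    have hπl : π.left = pullback.fst X.hom f := Category.id_comp _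
    haveI : Epi π := by
      haveI : Epi π.left := by rw [hπl]; exact Flat.epi_of_flat_of_surjective _
      exact Over.epi_of_epi_left π
    have h := hcen' _ (BC.up f (π ≫ t) ≫ (BaseChange.overIso φ).hom) (BC.up f (π ≫ g))
    rw [Category.assoc, hφ] at h
    have h' := congrArg (BC.down f) h
    rw [BC.down_mul, BC.down_mul, BC.down_map, BC.down_up, BC.down_up, Category.assoc] at h'
    rw [← cancel_epi π, MonObj.comp_mul, MonObj.comp_mul]
    exact h'
  have hmax : Red.IsMaximalTorus i := by
    refine ⟨him, hi, hT, fun s T₁ _ j₁ _ _ a hT₁ ha => ?_⟩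
    obtain ⟨s', rfl⟩ := f.surjective s
    letI : Algebra (S.residueField (f s')) (AlgebraicClosure (S'.residueField s')) :=
      ((algebraMap (S'.residueField s') (AlgebraicClosure (S'.residueField s'))).comp (f.residueFieldMap s').hom).toAlgebra
    let σ : AlgebraicClosure (S.residueField (f s')) →ₐ[S.residueField (f s')]
        AlgebraicClosure (S'.residueField s') := IsAlgClosed.lift
    letI : Algebra (AlgebraicClosure (S.residueField (f s'))) (AlgebraicClosure (S'.residueField s')) :=
      σ.toRingHom.toAlgebra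
    let g := TorusSpec.base (K := AlgebraicClosure (S.residueField (f s'))) (AlgebraicClosure (S'.residueField s'))
    have hsq : Red.geomPt s' ≫ f = g ≫ Red.geomPt (f s') := by
      rw [Category.assoc, ← Scheme.Hom.SpecMap_residueFieldMap_fromSpecResidueField, ← Spec.map_comp_assoc,
        ← Category.assoc, ← Spec.map_comp]
      refine congrArg (· ≫ S.fromSpecResidueField _) (congrArg Spec.map (CommRingCat.hom_ext ?_))
      exact σ.comp_algebraMap.symm
    obtain ⟨eG, eT, hnat⟩ := exists_transport (Red.geomPt s') f g (Red.geomPt (f s')) hsq i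
    haveI := BaseChange.isMonHom_overIso eG.symm
    haveI := BaseChange.isMonHom_overIso eT
    let eφ := BaseChange.bcMapIso (Red.geomPt s') φ
    haveI := BaseChange.isMonHom_overIso eφ.symm
    let E := BaseChange.overIso eG.symm
    let f₁ : Red.geomFibre s' T' ⟶ Red.bc g T₁ :=
      (BaseChange.overIso eφ.symm).hom ≫ (BaseChange.overIso eT).hom ≫ (Over.pullback g).map a
    let j' : Red.bc g T₁ ⟶ Red.geomFibre s' (Red.bc f G) := (Over.pullback g).map j₁ ≫ E.hom
    haveI : IsMonHom j' := inferInstanceAs (IsMonHom ((Over.pullback g).map j₁ ≫ E.hom))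
    haveI : Mono j' := mono_comp_iso _ E
    have hfj : f₁ ≫ j' = (Over.pullback (Red.geomPt s')).map i' := by
      have h1 : (Over.pullback g).map a ≫ (Over.pullback g).map j₁ =
          (Over.pullback g).map ((Over.pullback (Red.geomPt (f s'))).map i) := by
        rw [← Functor.map_comp, ha]
      have h2 : (Over.pullback g).map ((Over.pullback (Red.geomPt (f s'))).map i) ≫ E.hom =
          (BaseChange.overIso eT).inv ≫ (Over.pullback (Red.geomPt s')).map ((Over.pullback f).map i) := by
        rw [Iso.eq_inv_comp, ← Category.assoc, ← hnat, Category.assoc]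
        exact (congrArg _ (Iso.hom_inv_id _)).trans (Category.comp_id _)
      simp only [f₁, j', Category.assoc]
      rw [reassoc_of% h1, h2, Iso.hom_inv_id_assoc, ← hφ, Functor.map_comp]
      exact Iso.inv_hom_id_assoc (BaseChange.overIso eφ) _
    haveI : IsIso f₁ := hi'.2.2.2 s' (Red.bc g T₁) j' f₁ (Basic.isTorus_bc hT₁ g) hfj
    haveI : IsIso ((BaseChange.overIso eT).hom ≫ (Over.pullback g).map a) :=
      IsIso.of_isIso_comp_left (BaseChange.overIso eφ.symm).hom _
    haveI : IsIso ((Over.pullback g).map a) := IsIso.of_isIso_comp_left (BaseChange.overIso eT).hom _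
    haveI : Flat g := by
      rw [show g = Spec.map (CommRingCat.ofHom (algebraMap (AlgebraicClosure (S.residueField (f s')))
        (AlgebraicClosure (S'.residueField s')))) from rfl, HasRingHomProperty.Spec_iff (P := @Flat)]
      exact RingHom.flat_algebraMap_iff.mpr inferInstance
    haveI : Surjective g := ⟨fun y => ⟨IsLocalRing.closedPoint _, Subsingleton.elim (α := PrimeSpectrum _) _ _⟩⟩
    have h3 : Charts.Fib (MorphismProperty.isomorphisms Scheme) (g ≫ 𝟙 _) a := by
      rw [Category.comp_id]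
      exact inferInstanceAs (IsIso ((Over.forget _).map ((Over.pullback g).map a)))
    have h4 := Charts.fib_descend (MorphismProperty.isomorphisms Scheme) g h3
    haveI : IsIso a.left := by
      have hp := Charts.isPullback_map (𝟙 _) a
      haveI : IsIso ((Over.pullback (𝟙 _)).map a).left := h4
      haveI : IsIso (pullback.fst T₁.hom (𝟙 (Spec (CommRingCat.of (AlgebraicClosure (S.residueField (f s'))))))) :=
        inferInstance
      haveI : IsIso (pullback.fst (Red.geomFibre (f s') T).hom (𝟙 (Spec (CommRingCat.of (AlgebraicClosure (S.residueField (f s'))))))) :=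
        inferInstance
      haveI : IsIso (pullback.fst (Red.geomFibre (f s') T).hom (𝟙 (Spec (CommRingCat.of (AlgebraicClosure (S.residueField (f s')))))) ≫ a.left) := by
        rw [hp.w]; infer_instance
      exact IsIso.of_isIso_comp_left (pullback.fst (Red.geomFibre (f s') T).hom (𝟙 _)) a.left
    haveI : IsIso ((Over.forget _).map a) := ‹IsIso a.left›
    exact isIso_of_reflects_iso a (Over.forget _)
  exact ⟨T, gT, i, hmax, hcen, fun R _ j _ _ hR => exists_fac i hmax j hR fun X t r => hcen X t _⟩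

end Groth.Agent.H13.SubTorus
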