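import Groth.Agent.H87.TorusIn
import Groth.Agent.H87.Factor
import Groth.Agent.H87.LocalForm
import Mathlib.Algebra.AffineMonoid.UniqueSums
import Mathlib.AlgebraicGeometry.Morphisms.Flat

/-!
# Factorisation of commuting subtori over a local ring, without separatedness
-/

set_option autoImplicit false
set_option linter.style.haveILetI false
universe u

open CategoryTheory MonoidalCategory CartesianMonoidalCategory MonObj GrpObj AlgebraicGeometry
open CategoryTheory.Limits
open Groth.Agent.Lib.RedPts Groth.Agent.Lib.Tori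
open Groth.Agent.H87 Groth.Agent.H87.EqLocus
open Groth.Agent.H87.CentralEq (Fac lo)
open Groth.Agent.H87.Locus (Kills)

namespace Groth.Agent.H13.SubTorus

/-- The coefficient ideal of the kernel, when the kernel is closed. -/
theorem exists_coeff_ideal {S : Scheme.{u}} {H G : Over S} [GrpObj H] [GrpObj G] (u : H ⟶ G)
    {A : CommRingCat.{u}} {g : Spec A ⟶ S} {M : Type} [AddCommGroup M]
    (e : Grp.mk (Red.bc g H) ≅ Grp.mk (Red.DS (Spec A) M))
    [IsClosedImmersion (pullback.fst u.left η[G].left)]
    [LocallyOfFinitePresentation (pullback.fst u.left η[G].left)] :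
    ∃ J : Ideal A, J.FG ∧
      ∀ (D : CommRingCat.{u}) (φ : A ⟶ D), (Kills u (Spec.map φ ≫ g) ↔ J ≤ RingHom.ker φ.hom) := by
  classical
  obtain ⟨I, hfg, hI⟩ := Locus.exists_ideal u e
  obtain ⟨F, hF⟩ := hfg
  let C : Set A := ⋃ x ∈ F, Set.range fun m => x.coeff m
  refine ⟨Ideal.span C, ?_, fun D φ => ?_⟩
  · let C' : Finset A := F.biUnion fun x => x.coeff.support.image x.coeff
    refine ⟨C', le_antisymm (Ideal.span_mono ?_) (Ideal.span_le.mpr ?_)⟩
    · intro c hc
      simp only [C', Finset.coe_biUnion, Finset.coe_image, Set.mem_iUnion] at hc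
      obtain ⟨x, hx, m, -, rfl⟩ := hc
      exact Set.mem_biUnion hx ⟨m, rfl⟩
    · intro c hc
      simp only [C, Set.mem_iUnion] at hc
      obtain ⟨x, hx, m, rfl⟩ := hc
      by_cases h0 : x.coeff m = 0
      · simp only [h0]; exact Ideal.zero_mem _
      · refine Ideal.subset_span ?_
        simp only [C', Finset.coe_biUnion, Finset.coe_image, Set.mem_iUnion]
        exact ⟨x, hx, m, Finsupp.mem_support_iff.mpr h0, rfl⟩
  have hmap : ∀ z : MonoidAlgebra A (Multiplicative M), (Locus.ev (φ ≫ CommRingCat.ofHom MonoidAlgebra.singleOneRingHom)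
      (show Multiplicative M →* CommRingCat.of (MonoidAlgebra D (Multiplicative M)) from
        MonoidAlgebra.of D (Multiplicative M))).hom z = MonoidAlgebra.mapRingHom _ φ.hom z := by
    intro z
    induction z using MonoidAlgebra.induction_linear with
    | zero => rw [map_zero, map_zero]
    | add z z' hz hz' => rw [map_add, map_add, hz, hz']
    | single n r =>
      refine (MonoidAlgebra.liftNCRingHom_single _ _ (fun _ _ => Commute.all _ _) n r).trans ?_
      show (MonoidAlgebra.single (1 : Multiplicative M) (φ.hom r) * MonoidAlgebra.single n 1 :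
        MonoidAlgebra D (Multiplicative M)) = _
      simp
  constructor
  · intro hk
    let D₁ : CommRingCat.{u} := CommRingCat.of (MonoidAlgebra D (Multiplicative M))
    let inc : D ⟶ D₁ := CommRingCat.ofHom MonoidAlgebra.singleOneRingHom
    let p : (Over.map g).obj (Over.mk (Spec.map (φ ≫ inc))) ⟶ Over.mk (Spec.map φ ≫ g) :=
      Over.homMk (Spec.map inc) (by
        show Spec.map inc ≫ Spec.map φ ≫ g = Spec.map (φ ≫ inc) ≫ g
        rw [Spec.map_comp, Category.assoc])
    have h := (hI D₁ (φ ≫ inc) (MonoidAlgebra.of D (Multiplicative M))).mp (hk _ p _)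
    rw [Ideal.span_le]
    intro c hc
    simp only [C, Set.mem_iUnion] at hc
    obtain ⟨x, hx, m, rfl⟩ := hc
    have hx' := h (show x ∈ I from hF ▸ Ideal.subset_span hx)
    rw [RingHom.mem_ker, hmap] at hx'
    have := congrArg (fun z : MonoidAlgebra D (Multiplicative M) => z.coeff m) hx'
    simpa [RingHom.mem_ker] using this
  · intro hJ Y p gg
    apply Over.OverMorphism.ext
    refine Locus.ext_affine fun O hO => ?_
    let D' : CommRingCat.{u} := Γ(Y.left, O)
    obtain ⟨ψ, hψ⟩ := Spec.map_surjective (hO.fromSpec ≫ p.left)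
    have hY : hO.fromSpec ≫ Y.hom = Spec.map (φ ≫ ψ) ≫ g := by
      rw [Spec.map_comp, hψ, ← Over.w p]
      simp
    let k : (Over.map g).obj (Over.mk (Spec.map (φ ≫ ψ))) ⟶ Y := Over.homMk hO.fromSpec hY
    obtain ⟨χ, hχ⟩ := Rigid.pt_surjective e (k ≫ gg)
    have hχ' : χ = ((Locus.toG D').comp (((Scheme.ΓSpecIso D').hom.hom : Γ(Spec D', ⊤) →* D').comp χ) :
        Multiplicative M →* Γ((Over.mk (Spec.map (φ ≫ ψ))).left, ⊤)) := by
      ext m
      simp
    rw [hχ'] at hχ
    have h : (k ≫ gg) ≫ u = 1 := by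
      rw [← hχ, hI D' (φ ≫ ψ) _, ← hF, Ideal.span_le]
      intro x hx
      rw [SetLike.mem_coe, RingHom.mem_ker, ← MonoidAlgebra.sum_coeff_single x, map_finsuppSum]
      refine Finset.sum_eq_zero fun m _ => ?_
      refine (MonoidAlgebra.liftNCRingHom_single _ _ (fun _ _ => Commute.all _ _) m _).trans ?_
      have : φ.hom (x.coeff m) = 0 := hJ (Ideal.subset_span (Set.mem_biUnion hx ⟨m, rfl⟩))
      show ψ.hom (φ.hom (x.coeff m)) * _ = 0
      rw [this, map_zero, zero_mul]
    rw [← MonObj.comp_one k, Category.assoc] at h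
    exact congr(($h).left)

/-- Points over a base point at which `d` is trivial map into the unit section. -/
theorem mem_range_of_kills {S : Scheme.{u}} {H G : Over S} [GrpObj H] [GrpObj G] (d : H ⟶ G)
    {T : Scheme.{u}} {k : T ⟶ S} (hk : Kills d k) (x : H.left) (hx : H.hom x ∈ Set.range k) :
    d.left x ∈ Set.range η[G].left := by
  obtain ⟨z, rfl⟩ : x ∈ Set.range (pullback.fst H.hom k) := by
    rw [Scheme.Pullback.range_fst]
    exact hx
  let Y : Over S := Over.mk (pullback.snd H.hom k ≫ k)
  have h := congr(($(hk Y (Over.homMk (pullback.snd H.hom k)) (Over.homMk (pullback.fst H.hom k) pullback.condition))).left)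
  rw [Hom.one_def] at h
  have h' : pullback.fst H.hom k ≫ d.left = (pullback.snd H.hom k ≫ k) ≫ η[G].left := h
  exact ⟨_, congr(($h') z).symm⟩

/-- Specialisation of triviality: the kernel of `d` is locally closed, contains the fibre over `q`,
and is closed in the fibre over `p`. -/
theorem kills_of_specializes {S : Scheme.{u}} {H G : Over S} [GrpObj H] [GrpObj G] (d : H ⟶ G)
    [LocallyOfFiniteType G.hom] [Flat H.hom] {K : CommRingCat.{u}} [Nonempty ↥(Spec K)]
    [Subsingleton ↥(Spec K)] (hK : IsField K) (k : Spec K ⟶ S)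
    {T : Scheme.{u}} {k' : T ⟶ S} (hk' : Kills d k') (t' : T) (hspec : ∀ z, k' t' ⤳ k z)
    {W : Over S} [IsIntegral W.left] (w : W ⟶ H) (wk : W ⟶ Over.mk k) (z₀ : W.left)
    (hz₀ : d.left (w.left z₀) ∈ Set.range η[G].left) : w ≫ d = 1 := by
  letI := hK.toField
  let Gk := Red.bc k G
  haveI : LocallyOfFiniteType Gk.hom :=
    inferInstanceAs (LocallyOfFiniteType (pullback.snd G.hom _))
  haveI : IsSeparated Gk.hom := Groth.Agent.Lib.GrpSch.isSeparated_of_field (k := K) Gk
  haveI : IsClosedImmersion η[Gk].left := Groth.Agent.Lib.GrpSch.isClosedImmersion_η Gk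
  have hw0 : η[Gk].left ≫ pullback.fst G.hom k = k ≫ η[G].left := by
    have h0 : BC.down k (η[Gk]) = 1 := by rw [Gm.η_eq_one, BC.down_one]
    refine congr(($h0).left).trans ?_
    rw [Hom.one_def]
    show (𝟙 _ ≫ k) ≫ η[G].left = _
    rw [Category.id_comp]
  have h2 : IsPullback η[Gk].left k (pullback.fst G.hom k) η[G].left := by
    refine (IsPullback.of_bot ?_ hw0.symm (IsPullback.of_hasPullback G.hom k)).flip
    rw [show η[Gk].left ≫ pullback.snd G.hom k = 𝟙 (Spec K) from Over.w η[Gk],
      show η[G].left ≫ G.hom = 𝟙 S from Over.w η[G]]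
    exact IsPullback.of_vert_isIso ⟨by simp⟩
  let h : W.left ⟶ Gk.left := pullback.lift (w.left ≫ d.left) wk.left (by
    rw [Category.assoc, Over.w d, Over.w w]
    exact (Over.w wk).symm)
  have hh : h ≫ pullback.fst G.hom k = w.left ≫ d.left := pullback.lift_fst _ _ _
  have hmem : ∀ z, d.left (w.left z) ∈ Set.range η[G].left ↔ h z ∈ Set.range η[Gk].left := by
    intro z
    have e1 : d.left (w.left z) = pullback.fst G.hom k (h z) := congr(($hh) z).symm
    rw [e1]
    constructor
    · rintro ⟨s, hs⟩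
      have h4 : h z ∈ Set.range (pullback.fst (pullback.fst G.hom k) η[G].left) := by
        rw [Scheme.Pullback.range_fst]
        exact ⟨s, hs⟩
      obtain ⟨a, ha⟩ := h4
      refine ⟨h2.isoPullback.inv a, ?_⟩
      rw [← ha, ← Scheme.Hom.comp_apply, h2.isoPullback_inv_fst]
    · rintro ⟨y, hy⟩
      exact ⟨k y, by rw [← hy, ← Scheme.Hom.comp_apply, ← Scheme.Hom.comp_apply, hw0]⟩
  haveI : IsImmersion η[G].left := Groth.Agent.Lib.GrpSch.isImmersion_η G
  obtain ⟨U, C, hU, hC, hUC⟩ := η[G].left.isLocallyClosed_range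
  have hinC : ∀ z, d.left (w.left z) ∈ C := by
    intro z
    have hp : H.hom (w.left z) = k (wk.left z) := by
      rw [← Scheme.Hom.comp_apply, Over.w w, ← Over.w wk]
      rfl
    obtain ⟨y, hy, hyq⟩ := Flat.generalizingMap H.hom (hp ▸ hspec (wk.left z))
    have hy' := mem_range_of_kills d hk' y ⟨t', hyq.symm⟩
    rw [hUC] at hy'
    exact (hy.map d.left.continuous).mem_closed hC hy'.2
  have hcl : IsClosed {z | d.left (w.left z) ∈ Set.range η[G].left} := by
    simp only [hmem]
    exact η[Gk].left.isClosedEmbedding.isClosed_range.preimage h.continuous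
  have hall : ∀ z, h z ∈ Set.range η[Gk].left := by
    intro z
    rw [← hmem]
    have hop : IsOpen {z | d.left (w.left z) ∈ U} := hU.preimage (d.left.continuous.comp w.left.continuous)
    have hd : Dense {z | d.left (w.left z) ∈ U} :=
      hop.dense ⟨z₀, (hUC ▸ hz₀ : _ ∈ U ∩ C).1⟩
    refine hcl.closure_subset_iff.mpr (fun x hx => ?_) (hd z)
    show _ ∈ Set.range _
    rw [hUC]
    exact ⟨hx, hinC x⟩
  haveI : Surjective (pullback.fst h η[Gk].left) := ⟨fun z => by
    have : z ∈ Set.range (pullback.fst h η[Gk].left) := by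
      rw [Scheme.Pullback.range_fst]
      exact hall z
    exact this⟩
  haveI : IsIso (pullback.fst h η[Gk].left) := isIso_of_isClosedImmersion_of_surjective _
  apply Over.OverMorphism.ext
  have e1 : w.left ≫ d.left = ((inv (pullback.fst h η[Gk].left) ≫ pullback.snd h η[Gk].left) ≫ k) ≫ η[G].left := by
    rw [← hh]
    simp only [Category.assoc, ← hw0]
    rw [← pullback.condition_assoc, IsIso.inv_hom_id_assoc]
  have e2 : (inv (pullback.fst h η[Gk].left) ≫ pullback.snd h η[Gk].left) ≫ k = W.hom := by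
    have h3 := congrArg (· ≫ G.hom) e1
    simp only [Category.assoc, Over.w d, Over.w w, Over.w η[G]] at h3
    simpa using h3.symm
  rw [Hom.one_def]
  show w.left ≫ d.left = W.hom ≫ η[G].left
  rw [e1, e2]

section Chart

variable {S : Scheme.{u}} {G H H' : Over S} [GrpObj G] [GrpObj H] [GrpObj H'] (i : H ⟶ G) [IsMonHom i]
  (i' : H' ⟶ G) [IsMonHom i'] [Mono i'] {A : CommRingCat.{u}} {t : Spec A ⟶ S}
  {M N : Type} [AddCommGroup M] [AddCommGroup N] [AddGroup.FG N]
  (e : Grp.mk (Red.bc t H) ≅ Grp.mk (Red.DS (Spec A) M))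
  (e' : Grp.mk (Red.bc t H') ≅ Grp.mk (Red.DS (Spec A) N))

omit [IsMonHom i] [IsMonHom i'] [Mono i'] [AddGroup.FG N] in
/-- Triviality of the difference may be checked on the universal point. -/
theorem kills_diff_iff (φ : N →+ M) {K : CommRingCat.{u}} (k : Spec K ⟶ Spec A) :
    Kills (diffHom i i' e e' φ) k ↔
      (HomDS.univPt k M ≫ (BaseChange.overIso e).inv) ≫ diffHom i i' e e' φ = 1 := by
  constructor
  · intro h
    exact h _ (Over.homMk (Spec.map (CommRingCat.ofHom MonoidAlgebra.singleOneRingHom : K ⟶ HomDS.ring M))) _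
  · intro h Y p gg
    obtain ⟨r, hr⟩ := HomDS.exists_fac k M (X := Y) p.left (Over.w p) (gg ≫ (BaseChange.overIso e).hom)
    have : gg = r ≫ HomDS.univPt k M ≫ (BaseChange.overIso e).inv := by
      rw [← Category.assoc, hr, Category.assoc, Iso.hom_inv_id, Category.comp_id]
    rw [this, Category.assoc, h, MonObj.comp_one]

/-- Over a point where the factorisation holds, it is given by a map of characters. -/
theorem exists_kills {K : CommRingCat.{u}} [Subsingleton ↥(Spec K)] [Nonempty ↥(Spec K)]
    (k : Spec K ⟶ Spec A) (h0 : Fac i i' (k ≫ t)) :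
    ∃ φ : N →+ M, Kills (diffHom i i' e e' φ) k := by
  let E := BaseChange.overIso e
  let E' := BaseChange.overIso e'
  have : IsMonHom E.inv := inferInstanceAs (IsMonHom (BaseChange.overIso e.symm).hom)
  have : IsMonHom E'.inv := inferInstanceAs (IsMonHom (BaseChange.overIso e'.symm).hom)
  let D₀ := Red.DS (Spec K) M
  obtain ⟨gg', hgg'⟩ := h0 ((Over.map t).obj ((Over.map k).obj D₀))
    (Over.homMk D₀.hom (Category.assoc _ _ _).symm) (BC.down t (lo k (𝟙 D₀) ≫ E.inv))
  obtain ⟨v₀, hv₀⟩ := CentralEq.lo_surjective k (BC.up t gg' ≫ E'.hom)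
  have key : ∀ {X : Over (Spec K)} (x : X ⟶ D₀),
      BC.down t (lo k (x ≫ v₀) ≫ E'.inv) ≫ i' = BC.down t (lo k x ≫ E.inv) ≫ i := by
    intro X x
    rw [show lo k x = lo k (x ≫ 𝟙 D₀) by rw [Category.comp_id], CentralEq.lo_comp, CentralEq.lo_comp, hv₀,
      Category.assoc, Category.assoc, Category.assoc, Iso.hom_inv_id, Category.comp_id, BC.down_comp, BC.down_comp,
      BC.down_up, Category.assoc, Category.assoc, hgg']
  have : IsMonHom v₀ := HomDS.isMonHom_of_points v₀ fun X a b => by
    apply CentralEq.lo_injective k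
    rw [CentralEq.lo_mul, ← cancel_mono E'.inv, MonObj.mul_comp _ _ E'.inv]
    apply BC.down_injective
    rw [BC.down_mul, ← cancel_mono i', MonObj.mul_comp _ _ i', key, key, key, CentralEq.lo_mul,
      MonObj.mul_comp _ _ E.inv, BC.down_mul, MonObj.mul_comp _ _ i]
  obtain ⟨φ, U', hx, hφ⟩ := LocalForm.exists_local_form_spec v₀ (Classical.arbitrary ↥(Spec K))
  have hU' : ∀ y, y ∈ U' := fun y => Subsingleton.elim (Classical.arbitrary ↥(Spec K)) y ▸ hx
  have hv : v₀ = Red.DSmap (Spec K) φ :=
    (Category.id_comp _).symm.trans ((hφ _ (Over.homMk (IsOpenImmersion.lift U'.ι (Red.DS _ _).hom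
      (by rw [Scheme.Opens.range_ι]; exact fun y _ => hU' y)) (IsOpenImmersion.lift_fac _ _ _)) _).trans
      (Category.id_comp _))
  refine ⟨φ, fun Y p gg => ?_⟩
  let ε : (Over.map k).obj (Over.mk p.left) ≅ Y :=
    Over.isoMk (Iso.refl _) ((Category.id_comp _).trans (Over.w p).symm)
  obtain ⟨x, hx'⟩ := CentralEq.lo_surjective k (ε.hom ≫ gg ≫ E.hom)
  rw [← cancel_epi ε.hom, MonObj.comp_one, diffHom, comp_mul, comp_mul, comp_inv, comp_inv, mul_inv_eq_one]
  apply BC.down_injective
  have h1 := key x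
  rw [hv, Factor.lo_DSmap, hx'] at h1
  simp only [psi, Category.assoc, E, E', Iso.hom_inv_id, Category.comp_id] at h1
  simp only [psi, ← Category.assoc]
  rw [BC.down_map, BC.down_map]
  simp only [Category.assoc] at h1 ⊢
  exact h1.symm

include e e' in
/-- Over a local ring, fibrewise factorisation of a torus implies factorisation. -/
theorem fac_local [IsLocalRing A] [Flat H.hom] [LocallyOfFinitePresentation G.hom]
    [LocallyOfFinitePresentation H.hom] [QuasiSeparated G.hom] [IsAddTorsionFree M] [AddGroup.FG M]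
    (hcomm : ∀ (X : Over S) (h : X ⟶ H) (h' : X ⟶ H'), (h ≫ i) * (h' ≫ i') = (h' ≫ i') * (h ≫ i))
    (hfac : ∀ (q : PrimeSpectrum A),
      Fac i i' (Spec.map (CommRingCat.ofHom (algebraMap A q.asIdeal.ResidueField)) ≫ t)) :
    Fac i i' t := by
  let Kr : PrimeSpectrum A → CommRingCat.{u} := fun q => CommRingCat.of q.asIdeal.ResidueField
  let k : ∀ q, Spec (Kr q) ⟶ Spec A := fun q => Spec.map (CommRingCat.ofHom (algebraMap A q.asIdeal.ResidueField))
  have hsub : ∀ q, Subsingleton ↥(Spec (Kr q)) := fun q =>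
    inferInstanceAs (Subsingleton (PrimeSpectrum q.asIdeal.ResidueField))
  have hne : ∀ q, Nonempty ↥(Spec (Kr q)) := fun q =>
    inferInstanceAs (Nonempty (PrimeSpectrum q.asIdeal.ResidueField))
  have hk : ∀ q z, k q z = q := fun q z => by
    apply PrimeSpectrum.ext
    show Ideal.comap (algebraMap A q.asIdeal.ResidueField) (show PrimeSpectrum q.asIdeal.ResidueField from z).asIdeal = _
    rw [(Ideal.eq_bot_of_prime _ : (show PrimeSpectrum q.asIdeal.ResidueField from z).asIdeal = ⊥)]
    exact Ideal.ker_algebraMap_residueField q.asIdeal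
  choose Φ hΦ using fun q => exists_kills i i' e e' (k q) (hfac q)
  let c : PrimeSpectrum A := IsLocalRing.closedPoint A
  let d := diffHom i i' e e' (Φ c)
  let W : PrimeSpectrum A → Over (Spec A) := fun q =>
    HomDS.test (k q) (CommRingCat.ofHom MonoidAlgebra.singleOneRingHom : Kr q ⟶ HomDS.ring (A := Kr q) M)
  have hconst : ∀ q, Φ q = Φ c := by
    intro q
    haveI := hsub c
    haveI := hne c
    let dq := diffHom i i' e e' (Φ q)
    haveI : IsMonHom dq := isMonHom_diffHom i i' e e' hcomm _
    haveI : LocallyOfFiniteType (Red.bc t G).hom :=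
      inferInstanceAs (LocallyOfFiniteType (pullback.snd G.hom _))
    haveI : Flat (Red.bc t H).hom := inferInstanceAs (Flat (pullback.snd H.hom t))
    haveI : AddMonoid.FG M := AddGroup.fg_iff_addMonoid_fg.mp inferInstance
    haveI : IsDomain (MonoidAlgebra (Kr c) (Multiplicative M)) :=
      inferInstanceAs (IsDomain (MonoidAlgebra c.asIdeal.ResidueField (Multiplicative M)))
    haveI : IsIntegral (W c).left := inferInstanceAs (IsIntegral (Spec (HomDS.ring (A := Kr c) M)))
    let z₁ : ↥(Spec (Kr c)) := Classical.arbitrary _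
    let o := HomDS.evHom (k c) M (𝟙 (Kr c)) 1
    let E := BaseChange.overIso e
    haveI : IsMonHom E.inv := inferInstanceAs (IsMonHom (BaseChange.overIso e.symm).hom)
    have hq : (HomDS.univPt (k c) M ≫ E.inv) ≫ dq = 1 := by
      refine kills_of_specializes dq (Field.toIsField _) (k c) (hΦ q) (Classical.choice (hne q)) (fun z => ?_) _
        (Over.homMk (Spec.map (CommRingCat.ofHom MonoidAlgebra.singleOneRingHom : Kr c ⟶ HomDS.ring (A := Kr c) M))) (o.left z₁) ?_
      · rw [hk, hk]
        exact (PrimeSpectrum.le_iff_specializes _ _).mp (IsLocalRing.le_maximalIdeal q.2.ne_top)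
      · have h1 : o ≫ (HomDS.univPt (k c) M ≫ E.inv) ≫ dq = 1 := by
          rw [Category.assoc, ← Category.assoc o, HomDS.evHom_one, MonObj.one_comp E.inv |> congrArg (· ≫ dq) |> fun h => (Category.assoc _ _ _).symm.trans h,
            MonObj.one_comp dq]
        have h2 := congr(($h1).left z₁)
        rw [Hom.one_def] at h2
        exact ⟨_, h2.symm⟩
    have hc := hΦ c
    rw [kills_diff_iff] at hc
    refine AddMonoidHom.ext fun n => HomDS.chi_injective (A := Kr c) (k c) ?_
    simp only [dq, d, diffHom, comp_mul, comp_inv, mul_inv_eq_one] at hq hc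
    have h3 := hq.symm.trans hc
    simp only [psi, Category.assoc, E, Iso.inv_hom_id_assoc] at h3
    have : Mono ((Over.pullback t).map i') := inferInstance
    simp only [← Category.assoc, cancel_mono] at h3
    have h4 := congrArg (fun z => Gm.dsFn z n) h3
    simp only [Gm.dsFn_DSmap] at h4
    apply Gm.gmFn_injective
    rw [Gm.gmFn_chi, Gm.gmFn_chi]
    exact h4
  have hkills : ∀ q, Kills d (k q) := fun q => by
    have := hΦ q
    rwa [hconst q] at this
  haveI : IsMonHom d := isMonHom_diffHom i i' e e' hcomm _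
  have hrange : ∀ x, d.left x ∈ Set.range η[Red.bc t G].left := fun x =>
    mem_range_of_kills d (hkills ((Red.bc t H).hom x)) x ⟨Classical.choice (hne _), hk _ _⟩
  let K := pullback.fst d.left η[Red.bc t G].left
  haveI : IsImmersion η[Red.bc t G].left := Groth.Agent.Lib.GrpSch.isImmersion_η _
  haveI : IsImmersion K := inferInstanceAs (IsImmersion (pullback.fst _ _))
  haveI : IsClosedImmersion K := IsClosedImmersion.of_isPreimmersion K (by
    rw [Scheme.Pullback.range_fst, show d.left ⁻¹' Set.range η[Red.bc t G].left = Set.univ from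
      Set.eq_univ_of_forall hrange]
    exact isClosed_univ)
  haveI : LocallyOfFinitePresentation η[Red.bc t G].left := by
    haveI : LocallyOfFinitePresentation (η[Red.bc t G].left ≫ (Red.bc t G).hom) := by
      rw [Over.w η[Red.bc t G]]
      exact locallyOfFinitePresentation_of_isOpenImmersion (f := 𝟙 (Spec A))
    haveI : LocallyOfFinitePresentation (Red.bc t G).hom :=
      inferInstanceAs (LocallyOfFinitePresentation (pullback.snd G.hom t))
    haveI : LocallyOfFiniteType (Red.bc t G).hom := inferInstance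
    exact Groth.Agent.Lib.Lim.OpenImm.lfp_of_comp η[Red.bc t G].left (Red.bc t G).hom
  haveI : LocallyOfFinitePresentation K := inferInstanceAs (LocallyOfFinitePresentation (pullback.fst _ _))
  obtain ⟨J, hfg, hJ⟩ := exists_coeff_ideal d (g := 𝟙 (Spec A)) (BaseChange.bcId _ ≪≫ e)
  have hJnil : J ≤ nilradical A := by
    intro z hz
    rw [nilradical_eq_sInf, Ideal.mem_sInf]
    intro P hP
    haveI : P.IsPrime := hP
    let q : PrimeSpectrum A := ⟨P, hP⟩
    haveI : q.asIdeal.IsPrime := q.2
    have := (hJ (Kr q) (CommRingCat.ofHom (algebraMap A q.asIdeal.ResidueField))).mp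
      (Locus.kills_congr _ (Category.comp_id _).symm (hkills q)) hz
    exact (Ideal.algebraMap_residueField_eq_zero).mp this
  have hJn : IsNilpotent J := (hfg.isNilpotent_iff_le_nilradical).mpr hJnil
  refine CentralEq.fac_chart i i' hcomm e e' J hJn (fac_of_kills i i' e e' (Φ c) _ ?_)
  refine Locus.kills_congr _ (Category.comp_id _) ((hJ _ _).mpr fun z hz => ?_)
  exact Ideal.Quotient.eq_zero_iff_mem.mpr hz

end Chart

end Groth.Agent.H13.SubTorus
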