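import Groth.Agent.H13.SubTorus.Local
import Groth.Agent.Lib.Unram.BaseChangeNhd
import Groth.Agent.Lib.Flat55.FlatDescend
import Groth.Agent.H56.FlatMono

/-!
# A maximal torus contains the commuting subtori, without separatedness
-/

set_option autoImplicit false
set_option linter.style.haveILetI false
universe u

open CategoryTheory MonoidalCategory CartesianMonoidalCategory MonObj GrpObj AlgebraicGeometry
open CategoryTheory.Limits
open Groth.Agent.Lib.RedPts Groth.Agent.Lib.Tori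
open Groth.Agent.H87
open Groth.Agent.H87.CentralEq (Fac)

namespace Groth.Agent.H13.SubTorus

variable {S : Scheme.{u}} {G T R : Over S} [GrpObj G] [GrpObj T] [GrpObj R]

set_option backward.isDefEq.respectTransparency false in
/-- On every point a maximal torus contains the commuting subtori. -/
theorem fac_point [LocallyOfFinitePresentation G.hom] (i : T ⟶ G) (hT : Red.IsMaximalTorus i)
    (j : R ⟶ G) [IsMonHom j] [Mono j] (hR : Red.IsTorus R)
    (hcomm : ∀ (X : Over S) (t : X ⟶ T) (r : X ⟶ R), (t ≫ i) * (r ≫ j) = (r ≫ j) * (t ≫ i))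
    {K : Type u} [Field K] (k : Spec (CommRingCat.of K) ⟶ S) : Fac j i k := by
  obtain ⟨hi, him, hTt, hmax⟩ := hT
  haveI := hi
  haveI := him
  let s := k (IsLocalRing.closedPoint K)
  let g := Red.geomPt s
  haveI : LocallyOfFiniteType (Red.bc g G).hom :=
    inferInstanceAs (LocallyOfFiniteType (pullback.snd G.hom _))
  obtain ⟨w, hw⟩ := TorusIn.exists_fac_field ((Over.pullback g).map i) ((Over.pullback g).map j)
    (Basic.isTorus_bc hTt g) (Basic.isTorus_bc hR g) (fun T' _ j' _ _ f ht hf => hmax s T' j' f ht hf)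
    (fun X t r => BC.down_injective (by
      rw [BC.down_mul, BC.down_mul, BC.down_map, BC.down_map, hcomm]))
  have hfac : Fac j i g := by
    intro Y p x
    let ε : (Over.map g).obj (Over.mk p.left) ≅ Y :=
      Over.isoMk (Iso.refl _) ((Category.id_comp _).trans (Over.w p).symm)
    refine ⟨ε.inv ≫ BC.down g (BC.up g (ε.hom ≫ x) ≫ w), ?_⟩
    rw [Category.assoc, ← BC.down_map, Category.assoc, hw, BC.down_map, BC.down_up]
    simp
  refine (CentralEq.fib_iso_iff j i _).1 ((Charts.fib_point_iff (MorphismProperty.isomorphisms Scheme) k _).2 ?_)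
  have h1 := (Charts.fib_point_iff (MorphismProperty.isomorphisms Scheme) g (CentralEq.proj j i)).1
    ((CentralEq.fib_iso_iff j i g).2 hfac)
  have hs : g (IsLocalRing.closedPoint (AlgebraicClosure (S.residueField s))) = s :=
    S.fromSpecResidueField_apply s _
  rwa [hs] at h1

/-- A torus is split Zariski locally after an fpqc cover, together with a second group. -/
theorem exists_charts (hR : Red.IsTorus R) (hT : SGA3x.IsMultTypeFT T) :
    ∃ (S' : Scheme.{u}) (f : S' ⟶ S), Flat f ∧ Surjective f ∧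
      ∀ s' : S', ∃ U : S'.Opens, s' ∈ U ∧ ∃ (r : ℕ) (N : Type) (_ : AddCommGroup N), AddGroup.FG N ∧
        Nonempty (Grp.mk (Red.bc (U.ι ≫ f) R) ≅ Grp.mk (Red.DS (U : Scheme.{u}) (Fin r → ℤ))) ∧
        Nonempty (Grp.mk (Red.bc (U.ι ≫ f) T) ≅ Grp.mk (Red.DS (U : Scheme.{u}) N)) := by
  obtain ⟨S₁, f₁, hf₁, hs₁, -, hl₁⟩ := hR
  obtain ⟨S₂, f₂, hf₂, hs₂, -, hl₂⟩ := hT
  let p := pullback.fst f₁ f₂
  let q := pullback.snd f₁ f₂
  refine ⟨pullback f₁ f₂, p ≫ f₁, inferInstance, inferInstance, fun s' => ?_⟩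
  obtain ⟨U₁, hU₁, r, ⟨e₁⟩⟩ := hl₁ (p s')
  obtain ⟨U₂, hU₂, N, iN, hN, ⟨e₂⟩⟩ := hl₂ (q s')
  let U := p ⁻¹ᵁ U₁ ⊓ q ⁻¹ᵁ U₂
  let r₁ : (U : Scheme.{u}) ⟶ U₁ := (pullback f₁ f₂).homOfLE inf_le_left ≫ p ∣_ U₁
  let r₂ : (U : Scheme.{u}) ⟶ U₂ := (pullback f₁ f₂).homOfLE inf_le_right ≫ q ∣_ U₂
  refine ⟨U, ⟨hU₁, hU₂⟩, r, N, iN, hN,
    ⟨BaseChange.bcCongr ?_ R ≪≫ Charts.resChart e₁ r₁⟩, ⟨BaseChange.bcCongr ?_ T ≪≫ Charts.resChart e₂ r₂⟩⟩
  · simp [r₁, p, U]
  · simp [r₂, q, p, U, pullback.condition]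

/-- **A maximal torus contains the subtori commuting with it**, for any group of finite presentation. -/
theorem exists_fac [LocallyOfFinitePresentation G.hom] [QuasiSeparated G.hom] (i : T ⟶ G)
    (hT : Red.IsMaximalTorus i) (j : R ⟶ G) [IsMonHom j] [Mono j] (hR : Red.IsTorus R)
    (hcomm : ∀ (X : Over S) (t : X ⟶ T) (r : X ⟶ R), (t ≫ i) * (r ≫ j) = (r ≫ j) * (t ≫ i)) :
    ∃ f : R ⟶ T, f ≫ i = j := by
  have hpoint := fun {K : Type u} [Field K] (k : Spec (CommRingCat.of K) ⟶ S) => fac_point i hT j hR hcomm k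
  obtain ⟨hi, him, hTt, -⟩ := hT
  haveI := hi
  haveI := him
  have hTm := GmFibre.isMultTypeFT_of_isTorus hTt
  haveI : Flat R.hom := Basic.flat_of_isTorus hR
  haveI := MT.locallyOfFinitePresentation (GmFibre.isMultTypeFT_of_isTorus hR)
  haveI := MT.locallyOfFinitePresentation hTm
  obtain ⟨S', f, hf, hs, hloc⟩ := exists_charts hR hTm
  let P := MorphismProperty.isomorphisms Scheme.{u}
  let Y : S' → Scheme.{u} := fun s' => Spec (S'.presheaf.stalk s')
  let g : (∐ Y) ⟶ S := Sigma.desc fun s' => S'.fromSpecStalk s' ≫ f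
  haveI : ∀ s' : S', Flat (S'.fromSpecStalk s') := fun s' =>
    Groth.Agent.Lib.Unram.BaseChangeNhd.flat_fromSpecStalk s'
  haveI : IsZariskiLocalAtSource @Flat := HasRingHomProperty.instIsZariskiLocalAtSource (P := @Flat) (Q := RingHom.Flat)
  haveI : Flat g := IsZariskiLocalAtSource.sigmaDesc (P := @Flat) fun s' => inferInstance
  haveI : Surjective g := ⟨fun s => by
    obtain ⟨s', rfl⟩ := f.surjective s
    refine ⟨Sigma.ι Y s' (IsLocalRing.closedPoint (S'.presheaf.stalk s')), ?_⟩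
    have h0 : Sigma.ι Y s' ≫ g = S'.fromSpecStalk s' ≫ f := Sigma.ι_desc _ _
    exact (congr(($h0) (IsLocalRing.closedPoint (S'.presheaf.stalk s')))).trans (congrArg f Scheme.fromSpecStalk_closedPoint)⟩
  have hlocal : ∀ s' : S', Charts.Fib P (S'.fromSpecStalk s' ≫ f) (CentralEq.proj j i) := by
    intro s'
    obtain ⟨U, hU, r, N, iN, hN, ⟨eR⟩, ⟨eT⟩⟩ := hloc s'
    let l : Spec (S'.presheaf.stalk s') ⟶ U := IsOpenImmersion.lift U.ι (S'.fromSpecStalk s') (by
      rw [Scheme.Opens.range_ι, Scheme.range_fromSpecStalk]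
      exact fun y hy => hy.mem_open U.2 hU)
    have hl : l ≫ U.ι ≫ f = S'.fromSpecStalk s' ≫ f := by
      rw [← Category.assoc, IsOpenImmersion.lift_fac]
    refine (CentralEq.fib_iso_iff j i _).2 (fac_local j i (BaseChange.bcCongr hl.symm R ≪≫ Charts.resChart eR l)
      (BaseChange.bcCongr hl.symm T ≪≫ Charts.resChart eT l) (fun X r t => (hcomm X t r).symm) fun q => ?_)
    exact hpoint _
  have hfib : Charts.Fib P g (CentralEq.proj j i) := Charts.fib_of_cover P fun x => by
    obtain ⟨s', y, rfl⟩ := (sigmaOpenCover Y).exists_eq x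
    let O := (Sigma.ι Y s').opensRange
    refine ⟨O, ⟨y, rfl⟩, Charts.fib_congr P ?_ _ (Charts.fib_base P (Sigma.ι Y s').isoOpensRange.inv (hlocal s'))⟩
    have h1 : Sigma.ι Y s' ≫ g = S'.fromSpecStalk s' ≫ f := Sigma.ι_desc _ _
    rw [← h1, ← Category.assoc, Scheme.Hom.isoOpensRange_inv_comp]
  let u := CentralEq.proj j i
  let q := ((Over.pullback g).map u).left
  haveI : IsIso q := hfib
  have hsq : pullback.fst (Over.mk (pullback.fst j.left i.left ≫ R.hom)).hom g ≫ u.left =
      q ≫ pullback.fst R.hom g := (Charts.isPullback_map g u).w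
  haveI : Flat (pullback.fst R.hom g) := inferInstance
  haveI : Surjective (pullback.fst R.hom g) := inferInstance
  haveI : Flat (pullback.fst (Over.mk (pullback.fst j.left i.left ≫ R.hom)).hom g ≫ u.left) := by
    rw [hsq]; infer_instance
  haveI : Flat u.left :=
    Groth.Agent.Lib.Flat55.FlatDescend.flat_of_comp (pullback.fst (Over.mk (pullback.fst j.left i.left ≫ R.hom)).hom g) u.left
  haveI : Surjective u.left := by
    have : Surjective (pullback.fst (Over.mk (pullback.fst j.left i.left ≫ R.hom)).hom g ≫ u.left) := by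
      rw [hsq]; infer_instance
    exact Surjective.of_comp (pullback.fst (Over.mk (pullback.fst j.left i.left ≫ R.hom)).hom g) u.left
  haveI : Mono i.left := Over.mono_left_of_mono i
  haveI : Mono u.left := inferInstanceAs (Mono (pullback.fst j.left i.left))
  haveI : QuasiCompact i.left := by
    haveI : IsAffineHom T.hom := Basic.isAffineHom_of_isTorus hTt
    haveI : QuasiCompact (i.left ≫ G.hom) := by rw [Over.w i]; infer_instance
    exact QuasiCompact.of_comp i.left G.hom
  haveI : QuasiCompact u.left := inferInstanceAs (QuasiCompact (pullback.fst j.left i.left))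
  haveI : IsIso u.left := Groth.Agent.H56.FlatMono.isIso_of_flat_mono u.left
  have h1 : Charts.Fib P (𝟙 S) u := Charts.fib_of P (𝟙 S) u ‹IsIso u.left›
  obtain ⟨w, hw⟩ := (CentralEq.fib_iso_iff j i (𝟙 S)).1 h1 R (Over.homMk R.hom) (𝟙 R)
  exact ⟨w, by rw [hw, Category.id_comp]⟩

end Groth.Agent.H13.SubTorus
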